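import Groth.Agent.L28.TopCd.Basic
import Groth.Agent.L28.Serre.Main

/-! # Nonvanishing in the top degree -/

set_option autoImplicit false
set_option linter.style.haveILetI false
set_option linter.unusedSectionVars false
set_option backward.isDefEq.respectTransparency.types false

universe u

open CategoryTheory CategoryTheory.Limits AlgebraicGeometry Opposite CategoryTheory.Abelian
open Groth.L28.EtTrace (specExt etale_specExt)

noncomputable section

namespace Groth.L28.TopCd

set_option maxHeartbeats 1000000 in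
/-- Constructible sheaves on a field of finite cohomological dimension. -/
theorem exists_nontrivial (K : Type u) [Field K] {ℓ : ℕ} (hℓ : ℓ.Prime) (F : EtCoh.Ab (Spec (CommRingCat.of K)))
    (hF : EtDepth.IsLTorsion ℓ F) (hFc : EtPBC.IsConstructible F) (hF0 : ¬ IsZero F) (n : ℕ)
    (hK : Groth.L28.FieldTower.CdLE ℓ (Spec (CommRingCat.of K)) n)
    (hlow : ∀ d, d < n → ¬ Groth.L28.FieldTower.CdLE ℓ (Spec (CommRingCat.of K)) d) :
    ∃ (L : Type u) (_ : Field L) (_ : Algebra K L) (_ : Module.Finite K L) (_ : Algebra.IsSeparable K L),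
      Nontrivial (EtCoh.H (Spec (CommRingCat.of L))
        ((EtCoh.pull (Spec.map (CommRingCat.ofHom (algebraMap K L)))).obj F) n) := by
  classical
  haveI : Fact ℓ.Prime := ⟨hℓ⟩
  -- a quotient killed by `ℓ`
  obtain ⟨m, hm, hmF⟩ := Groth.L28.ExtShriek.exists_pos_nsmul_id hFc
  obtain ⟨N, hN⟩ := exists_pow_nsmul hℓ hF hm hmF
  let μ : F ⟶ F := ℓ • 𝟙 F
  have hGc : EtPBC.IsConstructible (cokernel μ) := (Groth.L28.Strata.isConstructible_kernel_cokernel μ hFc hFc).2
  have hGp : ℓ • 𝟙 (cokernel μ) = 0 := by
    rw [← cancel_epi (cokernel.π μ), comp_zero, Preadditive.comp_nsmul, Category.comp_id,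
      ← Category.id_comp (cokernel.π μ), ← Preadditive.nsmul_comp]
    exact cokernel.condition μ
  have hG0 : ¬ IsZero (cokernel μ) := fun hz => hF0 <| by
    haveI : Epi μ := Preadditive.epi_of_cokernel_zero (hz.eq_of_tgt _ _)
    rw [IsZero.iff_id_eq_zero]
    clear hmF hGc hGp
    induction N with
    | zero => rwa [pow_zero, one_nsmul] at hN
    | succ k ih =>
      refine ih ((cancel_epi μ).1 ?_)
      rw [Preadditive.comp_nsmul, Category.comp_id, comp_zero]
      show ℓ ^ k • (ℓ • 𝟙 F) = 0
      rwa [smul_smul, ← pow_succ]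
  obtain ⟨E, _, _, _, _, q₀, hq₀⟩ := exists_epi_const K (cokernel μ) hGc hGp hG0
  -- nonvanishing for the constant sheaf
  obtain ⟨L, _, _, _, _, hL⟩ : ∃ (L : Type u) (_ : Field L) (_ : Algebra E L) (_ : FiniteDimensional E L)
      (_ : Algebra.IsSeparable E L),
      ¬ Subsingleton (EtCoh.H (Spec (CommRingCat.of L)) (EtCoh.const (Spec (CommRingCat.of L)) (ZMod ℓ)) n) := by
    cases n with
    | zero => exact ⟨E, inferInstance, inferInstance, inferInstance, inferInstance,
        Groth.L28.CdLower.not_subsingleton_H_const_zero E ℓ hℓ.ne_one⟩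
    | succ m =>
      by_contra hne
      push Not at hne
      have hE : Groth.L28.FieldTower.CdLE ℓ (Spec (CommRingCat.of E)) m :=
        Groth.L28.CdLower.cdLE_of_const hℓ E m fun L _ _ _ _ =>
          hne L inferInstance inferInstance inferInstance inferInstance
      refine hlow m (Nat.lt_succ_self m) (Groth.L28.Serre.cdLE_of_finite_extension hℓ K E (algebraMap K E)
        (RingHom.finite_algebraMap.2 inferInstance) ?_ hE)
      by_cases h2 : ℓ = 2
      · subst h2
        exact Or.inr fun ho => Groth.L28.Serre.not_cdLE_two_of_orderable K ho _ hK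
      · exact Or.inl h2
  letI : Algebra K L := ((algebraMap E L).comp (algebraMap K E)).toAlgebra
  haveI : IsScalarTower K E L := IsScalarTower.of_algebraMap_eq' rfl
  refine ⟨L, inferInstance, inferInstance, Module.Finite.trans E L, Algebra.IsSeparable.trans K E L,
    not_subsingleton_iff_nontrivial.1 fun hsub => hL ?_⟩
  have hcomp : Spec.map (CommRingCat.ofHom (algebraMap K L)) = specExt E L ≫ specExt K E := by
    show _ = Spec.map _ ≫ Spec.map _
    rw [← Spec.map_comp]
    rfl
  let e := (EtCore.pullCongr hcomp ≪≫ EtCore.pullComp (specExt E L) (specExt K E)).app F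
  haveI : (EtCoh.pull (specExt K E)).PreservesEpimorphisms :=
    Functor.preservesEpimorphisms_of_adjunction (EtCoh.pullPushAdj _)
  haveI : (EtCoh.pull (specExt E L)).PreservesEpimorphisms :=
    Functor.preservesEpimorphisms_of_adjunction (EtCoh.pullPushAdj _)
  haveI := hq₀
  let f : (EtCoh.pull (Spec.map (CommRingCat.ofHom (algebraMap K L)))).obj F ⟶
      EtCoh.const (Spec (CommRingCat.of L)) (ZMod ℓ) :=
    e.hom ≫ (EtCoh.pull (specExt E L)).map ((EtCoh.pull (specExt K E)).map (cokernel.π μ) ≫ q₀) ≫
      (EtCore.pullConst (specExt E L) (ZMod ℓ)).hom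
  haveI : Epi ((EtCoh.pull (specExt K E)).map (cokernel.π μ) ≫ q₀) := epi_comp _ _
  haveI : Epi f := epi_comp _ _
  haveI : IsIntegralHom (Spec.map (CommRingCat.ofHom (algebraMap K L))) := by
    haveI : FiniteDimensional K L := Module.Finite.trans E L
    exact IsIntegralHom.SpecMap_iff.2 (algebraMap_isIntegral_iff.2 inferInstance)
  have hker : EtAcyc.IsLTorsion {ℓ} (kernel f) := Groth.L28.DimFun.isLTorsion_of_mono (kernel.ι f)
    (Groth.L27.CompTransfer.isLTorsion_pull _ _ (isLTorsion_acyc hℓ hF))
  have hcdL : Groth.L28.FieldTower.CdLE ℓ (Spec (CommRingCat.of L)) n :=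
    hK.of_integral (Spec.map (CommRingCat.ofHom (algebraMap K L)))
  haveI := hsub
  exact (surjective_top hcdL f hker).subsingleton

end Groth.L28.TopCd
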