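import Groth.Agent.L28.TopCd.Tensor
import Groth.Agent.L28.TopCd.Field
import Groth.Agent.L28.DimFun.Main
import Groth.Agent.L28.CdFinite.Bound
import Groth.Agent.L28.ExtShriek.Constr
import Groth.Agent.L27.EtSite.ClosedCover
import Mathlib.RingTheory.EssentialFiniteness
import Mathlib.RingTheory.Localization.Submodule
import Mathlib.RingTheory.LocalRing.ResidueField.Ideal

/-! # Nonvanishing higher direct images along a finitely generated extension -/

set_option autoImplicit false
set_option linter.style.haveILetI false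
set_option linter.unusedSectionVars false
set_option backward.isDefEq.respectTransparency.types false

universe u

open CategoryTheory CategoryTheory.Limits AlgebraicGeometry Opposite
open scoped TensorProduct

noncomputable section

namespace Groth.L28.TopCd

open FieldTower (CdLE)
open Groth.L27

set_option maxHeartbeats 1000000 in
/-- The cohomological dimension of the base change to a separable closure. -/
theorem cdLE_tensor (k L R : Type u) [Field k] [Field L] [Field R] [Algebra k L] [Algebra k R]
    [Algebra.IsSeparable k R] [IsSepClosed R] [Algebra.EssFiniteType k L] {ℓ : ℕ} (hℓ : ℓ.Prime) {n : ℕ}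
    (hn : Algebra.trdeg k L = n) : CdLE ℓ (Spec (CommRingCat.of (L ⊗[k] R))) n := by
  haveI : IsNoetherianRing (R ⊗[k] L) := Algebra.EssFiniteType.isNoetherianRing R _
  haveI : IsNoetherianRing (L ⊗[k] R) :=
    isNoetherianRing_of_ringEquiv (R ⊗[k] L) (Algebra.TensorProduct.comm k R L).toRingEquiv
  haveI : Algebra.IsAlgebraic k R := Algebra.IsSeparable.isAlgebraic k R
  haveI : Algebra.IsIntegral k R := Algebra.IsAlgebraic.isIntegral
  haveI : Algebra.IsIntegral L (L ⊗[k] R) := inferInstance
  have hmax : ∀ x : Spec (CommRingCat.of (L ⊗[k] R)), x.asIdeal.IsMaximal := fun x => by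
    haveI : x.asIdeal.IsPrime := x.isPrime
    refine Ideal.isMaximal_of_isIntegral_of_isMaximal_comap (R := L) (S := L ⊗[k] R) x.asIdeal ?_
    rw [(Ideal.eq_bot_or_top (Ideal.comap (algebraMap L (L ⊗[k] R)) x.asIdeal)).resolve_right
      (Ideal.IsPrime.ne_top inferInstance)]
    exact Ideal.bot_isMaximal
  haveI : IsNoetherian (Spec (CommRingCat.of (L ⊗[k] R))) := inferInstance
  have heq : ∀ x y : Spec (CommRingCat.of (L ⊗[k] R)), x ⤳ y → x = y := fun x y h =>
    PrimeSpectrum.ext ((hmax x).eq_of_le y.isPrime.ne_top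
      ((PrimeSpectrum.le_iff_specializes x y).2 h))
  have hpt : ∀ x : Spec (CommRingCat.of (L ⊗[k] R)),
      CdLE ℓ (Spec ((Spec (CommRingCat.of (L ⊗[k] R))).residueField x)) n := fun x => by
    haveI : x.asIdeal.IsPrime := x.isPrime
    let κ := x.asIdeal.ResidueField
    haveI : IsScalarTower k L κ := inferInstance
    letI : Algebra R κ :=
      ((algebraMap (L ⊗[k] R) κ).comp (Algebra.TensorProduct.includeRight (R := k) (A := L)).toRingHom).toAlgebra
    haveI : IsScalarTower k R κ := IsScalarTower.of_algebraMap_eq fun c => by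
      show _ = algebraMap (L ⊗[k] R) κ (Algebra.TensorProduct.includeRight (algebraMap k R c))
      rw [AlgHom.commutes]
      exact IsScalarTower.algebraMap_apply k (L ⊗[k] R) κ c
    have heqm : prodMap k L R κ = IsScalarTower.toAlgHom k (L ⊗[k] R) κ := by
      refine Algebra.TensorProduct.ext' fun l r => ?_
      rw [Algebra.TensorProduct.productMap_apply_tmul]
      show algebraMap L κ l * algebraMap (L ⊗[k] R) κ ((1 : L) ⊗ₜ[k] r) = algebraMap (L ⊗[k] R) κ (l ⊗ₜ r)
      rw [IsScalarTower.algebraMap_apply L (L ⊗[k] R) κ, ← map_mul]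
      simp [Algebra.TensorProduct.algebraMap_apply]
    haveI : x.asIdeal.IsMaximal := hmax x
    have hsurj : Function.Surjective (prodMap k L R κ) := by
      rw [heqm]
      exact Ideal.algebraMap_residueField_surjective _
    exact CdFinite.cdLE_of_iso (asIso (Spec.map (Scheme.Spec.residueFieldIso _ x).inv)) (cdLE_point hsurj hℓ hn)
  intro F hF q hq
  exact DimFun.vanBelow (fun _ => n) hpt (fun x y h hne => absurd (heq x y h) hne)
    (fun x y h hne => absurd (heq x y h) hne) (n + 1) F hF (fun y _ => Nat.lt_succ_self n) q hq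

variable {k L : Type u} [Field k] [Field L] [Algebra k L]

set_option maxHeartbeats 1000000 in
/-- A nonzero class over a residue field of the base change gives a nonzero higher direct image. -/
theorem not_isZero_Rpush [Algebra.EssFiniteType k L] {ℓ : ℕ} (hℓ : ℓ.Prime) {n : ℕ} (hn : Algebra.trdeg k L = n)
    (F : EtCoh.Ab (Spec (CommRingCat.of L))) (hF : EtAcyc.IsLTorsion {ℓ} F)
    (κ : Type u) [Field κ] [Algebra k κ] [Algebra L κ] [IsScalarTower k L κ]
    [Algebra (separableClosure k (SeparableClosure k)) κ]
    [IsScalarTower k (separableClosure k (SeparableClosure k)) κ]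
    (hsurj : Function.Surjective (prodMap k L (separableClosure k (SeparableClosure k)) κ))
    (hne : Nontrivial (EtCoh.H (Spec (CommRingCat.of κ))
      ((EtCoh.pull (Spec.map (CommRingCat.ofHom (algebraMap L κ)))).obj F) n)) :
    ¬ IsZero ((EtCoh.Rpush (Spec.map (CommRingCat.ofHom (algebraMap k L))) n).obj F) := by
  intro hz
  let Ω := SeparableClosure k
  let R := separableClosure k Ω
  haveI : IsSepClosure k R := separableClosure.isSepClosure k Ω
  haveI : IsSepClosed R := IsSepClosure.sep_closed k
  let f : Spec (CommRingCat.of L) ⟶ Spec (CommRingCat.of k) := Spec.map (CommRingCat.ofHom (algebraMap k L))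
  let φ : CommRingCat.of k ⟶ CommRingCat.of Ω := CommRingCat.ofHom (algebraMap k Ω)
  obtain ⟨e⟩ := StalkRpush.nonempty_natIso_chart f k (𝟙 _) Ω R (FieldTower.colEquiv k Ω) n
    (Spec.map φ) (Category.comp_id _).symm (StalkRpush.toBase k R) (Category.comp_id _).symm
  let g := pullback.fst f (StalkRpush.toBase k R)
  let P := pullback f (StalkRpush.toBase k R)
  haveI h0 : Subsingleton (EtCoh.H P ((EtCoh.pull g).obj F) n) :=
    AddCommGrpCat.subsingleton_of_isZero (((EtCoh.stalk (Spec.map φ)).map_isZero hz).of_iso (e.app F).symm)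
  have hcd : CdLE ℓ P n := CdFinite.cdLE_of_iso (pullbackSpecIso k L R) (cdLE_tensor k L R hℓ hn)
  let ψ := prodMap k L R κ
  let c : Spec (CommRingCat.of κ) ⟶ P := Spec.map (CommRingCat.ofHom ψ.toRingHom) ≫ (pullbackSpecIso k L R).inv
  haveI : IsClosedImmersion (Spec.map (CommRingCat.ofHom ψ.toRingHom)) :=
    IsClosedImmersion.spec_of_surjective _ hsurj
  haveI : IsClosedImmersion c := inferInstance
  have hcg : Spec.map (CommRingCat.ofHom (algebraMap L κ)) = c ≫ g := by
    show _ = (_ ≫ (pullbackSpecIso k L R).inv) ≫ pullback.fst (Spec.map (CommRingCat.ofHom (algebraMap k L))) _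
    rw [Category.assoc]
    refine Eq.trans ?_ (congrArg (Spec.map (CommRingCat.ofHom ψ.toRingHom) ≫ ·) (pullbackSpecIso_inv_fst k L R).symm)
    rw [← Spec.map_comp]
    refine congrArg Spec.map (CommRingCat.hom_ext (RingHom.ext fun l => ?_))
    show algebraMap L κ l = ψ (l ⊗ₜ 1)
    simp [ψ]
  let G := (EtCoh.pull g).obj F
  haveI := EtSite.preservesFiniteLimits_pull c
  haveI := ClosedCover.epi_unit c G
  haveI : Subsingleton (EtCoh.H P ((𝟭 (EtCoh.Ab P)).obj G) n) := h0
  haveI h1 : Subsingleton (EtCoh.H P ((EtCoh.push c).obj ((EtCoh.pull c).obj G)) n) :=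
    (surjective_top hcd ((EtCoh.pullPushAdj c).unit.app G)
      (DimFun.isLTorsion_of_mono (kernel.ι _) (CompTransfer.isLTorsion_pull _ g hF))).subsingleton
  have h2 : Subsingleton (EtCoh.H (Spec (CommRingCat.of κ)) ((EtCoh.pull c).obj G) n) :=
    (EtSite.bijective_HofPush c _
      (fun s hs => EtSite.isZero_Rpush_of_propB c (EtSite.propB_of_isIntegralHom c) _ s hs) n).2.subsingleton
  have h3 := Devissage.of_iso ((EtCore.pullCongr hcg ≪≫ EtCore.pullComp c g).app F) n h2
  exact not_subsingleton _ h3

end Groth.L28.TopCd
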