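import Groth.Agent.L28.FieldTower.Main
import Groth.Agent.L28.CdLower.Trdeg
import Groth.Agent.L28.CurveCd.Points

/-! # Points of the base change of an extension to a separable closure -/

set_option autoImplicit false
set_option linter.style.haveILetI false
set_option linter.unusedSectionVars false
set_option backward.isDefEq.respectTransparency.types false

universe u

open CategoryTheory CategoryTheory.Limits AlgebraicGeometry Opposite
open scoped TensorProduct

noncomputable section

namespace Groth.L28.TopCd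

open FieldTower (CdLE)

variable (k L R κ : Type u) [Field k] [Field L] [Field R] [Field κ] [Algebra k L] [Algebra k R] [Algebra k κ]
  [Algebra L κ] [Algebra R κ] [IsScalarTower k L κ] [IsScalarTower k R κ] [Algebra.IsSeparable k R]

/-- The map from the tensor product. -/
abbrev prodMap : L ⊗[k] R →ₐ[k] κ :=
  Algebra.TensorProduct.productMap (IsScalarTower.toAlgHom k L κ) (IsScalarTower.toAlgHom k R κ)

variable {k L R κ} (hsurj : Function.Surjective (prodMap k L R κ))

include hsurj

theorem isSeparable_point : Algebra.IsSeparable L κ := by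
  refine ⟨fun x => mem_separableClosure_iff.1 ?_⟩
  obtain ⟨z, rfl⟩ := hsurj x
  induction z with
  | zero => rw [map_zero]; exact zero_mem _
  | add a b ha hb => rw [map_add]; exact add_mem ha hb
  | tmul l r =>
    rw [Algebra.TensorProduct.productMap_apply_tmul]
    refine mul_mem ((separableClosure L κ).algebraMap_mem l) (mem_separableClosure_iff.2 ?_)
    exact ((isSeparable_map_iff (IsScalarTower.toAlgHom k R κ) (IsScalarTower.toAlgHom k R κ).toRingHom.injective).2
      (Algebra.IsSeparable.isSeparable k r)).tower_top L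

theorem trdeg_point {n : ℕ} (hn : Algebra.trdeg k L = n) : Algebra.trdeg R κ = n := by
  haveI := isSeparable_point hsurj
  haveI : Algebra.IsAlgebraic L κ := Algebra.IsSeparable.isAlgebraic L κ
  haveI : Algebra.IsAlgebraic k R := Algebra.IsSeparable.isAlgebraic k R
  have h1 : Algebra.trdeg k κ = n := by
    rw [← trdeg_add_eq k L (A := κ), trdeg_eq_zero (R := L) (A := κ), add_zero, hn]
  rw [← h1, ← trdeg_add_eq k R (A := κ), trdeg_eq_zero (R := k) (A := R), zero_add]

theorem fg_point (hfg : ∃ s : Finset L, IntermediateField.adjoin k (s : Set L) = ⊤) :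
    ∃ s : Finset κ, IntermediateField.adjoin R (s : Set κ) = ⊤ := by
  classical
  obtain ⟨s, hs⟩ := hfg
  refine ⟨s.image (algebraMap L κ), top_le_iff.1 fun x _ => ?_⟩
  rw [Finset.coe_image]
  let E : IntermediateField R κ := IntermediateField.adjoin R (algebraMap L κ '' s)
  obtain ⟨z, rfl⟩ := hsurj x
  have hL : ∀ l : L, algebraMap L κ l ∈ E := fun l => by
    have h1 : (IntermediateField.adjoin k (s : Set L)).map (IsScalarTower.toAlgHom k L κ) ≤ E.restrictScalars k := by
      rw [IntermediateField.adjoin_map, IntermediateField.adjoin_le_iff]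
      exact fun y hy => IntermediateField.subset_adjoin R (algebraMap L κ '' s) hy
    exact h1 ⟨l, hs.symm ▸ IntermediateField.mem_top, rfl⟩
  induction z with
  | zero => rw [map_zero]; exact zero_mem _
  | add a b ha hb => rw [map_add]; exact add_mem (ha trivial) (hb trivial)
  | tmul l r =>
    rw [Algebra.TensorProduct.productMap_apply_tmul]
    exact mul_mem (hL l) (E.algebraMap_mem r)

theorem cdLE_point [IsSepClosed R] {ℓ : ℕ} (hℓ : ℓ.Prime) {n : ℕ} (hn : Algebra.trdeg k L = n) :
    CdLE ℓ (Spec (CommRingCat.of κ)) n := by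
  have h0 : CdLE ℓ (Spec (CommRingCat.of R)) 0 := fun G _ r hr => by
    obtain ⟨i, rfl⟩ : ∃ i, r = i + 1 := ⟨r - 1, by omega⟩
    exact CurveCd.subsingleton_H_sepClosed _ G i
  simpa using FieldTower.cdLE_of_trdeg hℓ n R κ (trdeg_point hsurj hn) 0 h0

theorem not_cdLE_point [IsSepClosed R] {ℓ : ℕ} (hℓ : ℓ.Prime) (hk : (ℓ : k) ≠ 0) {n : ℕ}
    (hn : Algebra.trdeg k L = n) (hfg : ∃ s : Finset L, IntermediateField.adjoin k (s : Set L) = ⊤)
    (d : ℕ) (hd : d < n) : ¬ CdLE ℓ (Spec (CommRingCat.of κ)) d := by
  intro h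
  have hR : (ℓ : R) ≠ 0 := fun e => hk ((algebraMap k R).injective (by rw [map_natCast, e, map_zero]))
  refine absurd (CdLower.le_cd_of_fg hℓ n R κ (trdeg_point hsurj hn) (fg_point hsurj hfg) hR ?_ d h).1 (by omega)
  by_cases h2 : ℓ = 2
  · subst h2
    refine Or.inr fun ⟨o, ho⟩ => ?_
    letI := o
    haveI := ho
    haveI : NeZero ((2 : ℕ) : R) := ⟨hR⟩
    obtain ⟨z, hz⟩ := IsSepClosed.exists_pow_nat_eq (-1 : R) 2
    nlinarith [sq_nonneg z, (zero_lt_one : (0 : R) < 1)]
  · exact Or.inl h2

omit hsurj in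
/-- A point of the base change. -/
theorem exists_point (k K R : Type u) [Field k] [Field K] [Field R] [Algebra k K] [Algebra k R] :
    ∃ (κ : Type u) (_ : Field κ) (_ : Algebra k κ) (_ : Algebra K κ) (_ : Algebra R κ) (_ : IsScalarTower k K κ)
      (_ : IsScalarTower k R κ), Function.Surjective (prodMap k K R κ) := by
  obtain ⟨m, hm⟩ := Ideal.exists_maximal (K ⊗[k] R)
  let q := Ideal.Quotient.mkₐ k m
  letI : Field ((K ⊗[k] R) ⧸ m) := Ideal.Quotient.field m
  letI : Algebra R ((K ⊗[k] R) ⧸ m) :=
    (q.comp (Algebra.TensorProduct.includeRight (R := k) (A := K))).toRingHom.toAlgebra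
  haveI : IsScalarTower k R ((K ⊗[k] R) ⧸ m) :=
    IsScalarTower.of_algebraMap_eq fun c =>
      ((q.comp (Algebra.TensorProduct.includeRight (R := k) (A := K))).commutes c).symm
  refine ⟨(K ⊗[k] R) ⧸ m, inferInstance, inferInstance, inferInstance, inferInstance, inferInstance, inferInstance, ?_⟩
  have heqm : prodMap k K R ((K ⊗[k] R) ⧸ m) = q := by
    refine Algebra.TensorProduct.ext' fun l r => ?_
    rw [Algebra.TensorProduct.productMap_apply_tmul]
    show Ideal.Quotient.mk m (algebraMap K (K ⊗[k] R) l) * Ideal.Quotient.mk m ((1 : K) ⊗ₜ[k] r) =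
      Ideal.Quotient.mk m (l ⊗ₜ r)
    rw [← map_mul]
    simp [Algebra.TensorProduct.algebraMap_apply]
  rw [heqm]
  exact Ideal.Quotient.mk_surjective

end Groth.L28.TopCd
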